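import Cfsg.Agent.Lib.JankoRee.PSL2Four

/-!
`PSL₂` in odd characteristic: a non-identity element of odd order commutes with at most one involution, and the
elements of odd order commuting with one involution commute with each other.
-/

set_option autoImplicit false
set_option linter.style.haveILetI false

namespace Cfsg.Agent.MaxCent

open Matrix Cfsg.Agent.AutPSL Cfsg.Agent.JankoRee

variable {F : Type*} [Field F]

local notation "M2" => Matrix (Fin 2) (Fin 2) F
local notation "SL2" => Matrix.SpecialLinearGroup (Fin 2) F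
local notation "PSL2" => Matrix.ProjectiveSpecialLinearGroup (Fin 2) F

/-- The commutant of a non-scalar matrix of size two is commutative. -/
theorem commutant_comm {M X Y : M2} (hns : ∀ c : F, M ≠ c • (1 : M2)) (hX : X * M = M * X)
    (hY : Y * M = M * Y) : X * Y = Y * X := by
  have e : ∀ {A B : M2}, A * B = B * A →
      A 0 1 * B 1 0 = B 0 1 * A 1 0 ∧ B 0 1 * (A 0 0 - A 1 1) = A 0 1 * (B 0 0 - B 1 1) ∧
        B 1 0 * (A 0 0 - A 1 1) = A 1 0 * (B 0 0 - B 1 1) := by
    intro A B h
    have h00 := congrFun (congrFun h 0) 0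
    have h01 := congrFun (congrFun h 0) 1
    have h10 := congrFun (congrFun h 1) 0
    simp [Matrix.mul_apply, Fin.sum_univ_two] at h00 h01 h10
    exact ⟨by linear_combination h00, by linear_combination h01, by linear_combination -h10⟩
  obtain ⟨x1, x2, x3⟩ := e hX
  obtain ⟨y1, y2, y3⟩ := e hY
  have hnz : M 0 1 ≠ 0 ∨ M 1 0 ≠ 0 ∨ M 0 0 - M 1 1 ≠ 0 := by
    by_contra h
    push Not at h
    obtain ⟨h1, h2, h3⟩ := h
    refine hns (M 0 0) ?_
    rw [sub_eq_zero] at h3
    ext i j
    fin_cases i <;> fin_cases j <;> simp [h1, h2, h3]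
  have k1 : X 0 1 * Y 1 0 = Y 0 1 * X 1 0 := by
    rcases hnz with h | h | h <;> refine mul_left_cancel₀ h ?_
    · linear_combination (-X 0 1) * y1 + (Y 0 1) * x1
    · linear_combination (Y 1 0) * x1 + (-X 1 0) * y1
    · linear_combination (-X 0 1) * y3 + (Y 0 0 - Y 1 1) * x1 + (X 1 0) * y2
  have k2 : Y 0 1 * (X 0 0 - X 1 1) = X 0 1 * (Y 0 0 - Y 1 1) := by
    rcases hnz with h | h | h <;> refine mul_left_cancel₀ h ?_
    · linear_combination (Y 0 1) * x2 + (-X 0 1) * y2
    · linear_combination (Y 0 1) * x3 + (-X 0 1) * y3 - (M 0 0 - M 1 1) * k1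
    · linear_combination (-(X 0 0 - X 1 1)) * y2 + (Y 0 0 - Y 1 1) * x2
  have k3 : Y 1 0 * (X 0 0 - X 1 1) = X 1 0 * (Y 0 0 - Y 1 1) := by
    rcases hnz with h | h | h <;> refine mul_left_cancel₀ h ?_
    · linear_combination (Y 1 0) * x2 + (-X 1 0) * y2 + (M 0 0 - M 1 1) * k1
    · linear_combination (Y 1 0) * x3 + (-X 1 0) * y3
    · linear_combination (-(X 0 0 - X 1 1)) * y3 + (Y 0 0 - Y 1 1) * x3
  ext i j
  fin_cases i <;> fin_cases j <;> simp [Matrix.mul_apply, Fin.sum_univ_two]
  · linear_combination k1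
  · linear_combination k2
  · linear_combination -k3
  · linear_combination -k1

/-- An element of odd order lifts to one of odd order. -/
theorem exists_odd_lift {g : PSL2} (hg : Odd (orderOf g)) :
    ∃ B : SL2, (QuotientGroup.mk B : PSL2) = g ∧ B ^ orderOf g = 1 := by
  obtain ⟨B, rfl⟩ := QuotientGroup.mk_surjective g
  set m := orderOf (QuotientGroup.mk B : PSL2) with hm
  obtain ⟨j, hj⟩ := hg
  have h1 : (QuotientGroup.mk (B ^ m) : PSL2) = 1 := by
    rw [QuotientGroup.mk_pow, hm, pow_orderOf_eq_one]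
  obtain ⟨c, hc2, hc⟩ := exists_smul_of_mk_eq (s := (1 : SL2)) (t := B ^ m) (h1.trans (QuotientGroup.mk_one _).symm)
  have h2 : B ^ (2 * m) = 1 := by
    refine Subtype.ext ?_
    show ((B ^ (2 * m) : SL2) : M2) = ((1 : SL2) : M2)
    rw [two_mul, pow_add, Matrix.SpecialLinearGroup.coe_mul, hc, Matrix.SpecialLinearGroup.coe_one,
      smul_mul_smul_comm, one_mul, ← pow_two, hc2, one_smul]
  refine ⟨B ^ (m + 1), ?_, ?_⟩
  · rw [QuotientGroup.mk_pow, pow_succ, hm, pow_orderOf_eq_one, one_mul]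
  · rw [← pow_mul, show (m + 1) * m = 2 * m * (j + 1) by rw [hj]; ring, pow_mul, h2, one_pow]

variable (h2 : (2 : F) ≠ 0)
include h2

/-- Lifts of an element of odd order and a commuting element commute. -/
theorem lift_commute {B W : SL2} {m : ℕ} (hm : Odd m) (hB : B ^ m = 1)
    (hc : (QuotientGroup.mk B : PSL2) * QuotientGroup.mk W = QuotientGroup.mk W * QuotientGroup.mk B) :
    (B : M2) * W = W * B := by
  rw [← QuotientGroup.mk_mul, ← QuotientGroup.mk_mul] at hc
  obtain ⟨c, hc2, hcc⟩ := exists_smul_of_mk_eq hc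
  simp only [Matrix.SpecialLinearGroup.coe_mul] at hcc
  rcases sq_eq_one_iff.1 hc2 with rfl | rfl
  · rwa [one_smul] at hcc
  exfalso
  rw [neg_one_smul] at hcc
  have key : ∀ k : ℕ, (B : M2) ^ k * W = ((-1 : F) ^ k) • ((W : M2) * (B : M2) ^ k) := by
    intro k
    induction k with
    | zero => simp
    | succ k ih =>
      rw [pow_succ (B : M2), mul_assoc, hcc, mul_neg, ← mul_assoc, ih, smul_mul_assoc, mul_assoc,
        pow_succ (-1 : F), mul_neg_one, neg_smul]
  have h := key m
  have hBm : (B : M2) ^ m = 1 := by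
    rw [← Matrix.SpecialLinearGroup.coe_pow, hB, Matrix.SpecialLinearGroup.coe_one]
  rw [hBm, one_mul, mul_one, hm.neg_one_pow, neg_one_smul, eq_neg_iff_add_eq_zero, ← two_smul F] at h
  have h0 := (smul_eq_zero.1 h).resolve_left h2
  have hd := W.2
  rw [h0, Matrix.det_zero] at hd
  exact zero_ne_one hd

/-- A non-identity element of odd order commutes with at most one involution. -/
theorem invol_unique {b w u : PSL2} (hb : Odd (orderOf b)) (hb1 : b ≠ 1) (hw : w ≠ 1) (hw2 : w * w = 1)
    (hu : u ≠ 1) (hu2 : u * u = 1) (hbw : b * w = w * b) (hbu : b * u = u * b) : w = u := by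
  obtain ⟨B, rfl, hB⟩ := exists_odd_lift hb
  obtain ⟨W, rfl⟩ := QuotientGroup.mk_surjective w
  obtain ⟨U, rfl⟩ := QuotientGroup.mk_surjective u
  obtain ⟨htW, hW2⟩ := lift_involution hw hw2
  obtain ⟨htU, -⟩ := lift_involution hu hu2
  have hns : ∀ c : F, (B : M2) ≠ c • (1 : M2) := fun c hc => hb1 (mk_eq_one_of_scalar hc)
  have hWU : (W : M2) * U = U * W :=
    commutant_comm hns (lift_commute h2 hb hB hbw).symm (lift_commute h2 hb hB hbu).symm
  by_contra hne
  have hmk : (QuotientGroup.mk (W * U) : PSL2) = QuotientGroup.mk (U * W) :=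
    congrArg _ (Subtype.ext (by rw [Matrix.SpecialLinearGroup.coe_mul, Matrix.SpecialLinearGroup.coe_mul, hWU]))
  have h := lift_anticomm h2 hne hmk htW htU hW2
  rw [← hWU, eq_neg_iff_add_eq_zero, ← two_smul F] at h
  have h0 := (smul_eq_zero.1 h).resolve_left h2
  have hd : ((W : M2) * U).det = 1 := by rw [Matrix.det_mul, W.2, U.2, one_mul]
  rw [h0, Matrix.det_zero] at hd
  exact zero_ne_one hd

/-- Elements of odd order commuting with the same involution commute. -/
theorem odd_comm {x y w : PSL2} (hx : Odd (orderOf x)) (hy : Odd (orderOf y)) (hw : w ≠ 1) (hw2 : w * w = 1)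
    (hxw : x * w = w * x) (hyw : y * w = w * y) : x * y = y * x := by
  obtain ⟨X, rfl, hX⟩ := exists_odd_lift hx
  obtain ⟨Y, rfl, hY⟩ := exists_odd_lift hy
  obtain ⟨W, rfl⟩ := QuotientGroup.mk_surjective w
  have hns : ∀ c : F, (W : M2) ≠ c • (1 : M2) := fun c hc => hw (mk_eq_one_of_scalar hc)
  have h := commutant_comm hns (lift_commute h2 hx hX hxw) (lift_commute h2 hy hY hyw)
  rw [← QuotientGroup.mk_mul, ← QuotientGroup.mk_mul]
  exact congrArg _ (Subtype.ext (by rw [Matrix.SpecialLinearGroup.coe_mul, Matrix.SpecialLinearGroup.coe_mul, h]))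

end Cfsg.Agent.MaxCent
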