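import Cfsg.Agent.Lib.MaxCent.PSL
import Cfsg.Agent.Lib.JankoRee.Main
import Cfsg.Agent.Lib.SEBrick.Basic
import Cfsg.Agent.Lib.Involutions.Basic

/-!
An involution with centraliser `⟨t⟩ × E`, `PSL₂(q) ⊴ E`, in a group with abelian Sylow 2-subgroups: elementary facts
and the orbits of a subgroup containing the centraliser on the involutions of a Sylow 2-subgroup.
-/

set_option autoImplicit false
set_option linter.style.haveILetI false

namespace Cfsg.Agent.MaxCent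

open Subgroup

universe u

/-- The two facts on elements of odd order of `PSL₂` in odd characteristic, for a subgroup. -/
structure OddFacts {G : Type u} [Group G] (N : Subgroup G) : Prop where
  unique : ∀ b ∈ N, ∀ w ∈ N, ∀ v ∈ N, Odd (orderOf b) → b ≠ 1 → w ≠ 1 → w * w = 1 → v ≠ 1 → v * v = 1 →
    b * w = w * b → b * v = v * b → w = v
  comm : ∀ x ∈ N, ∀ y ∈ N, ∀ w ∈ N, Odd (orderOf x) → Odd (orderOf y) → w ≠ 1 → w * w = 1 →
    x * w = w * x → y * w = w * y → x * y = y * x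

variable {G : Type u} [Group G]

theorem oddFacts_of_equiv {F : Type*} [Field F] [Fintype F] (hodd : Odd (Fintype.card F)) (N : Subgroup G)
    (e : N ≃* Matrix.ProjectiveSpecialLinearGroup (Fin 2) F) : OddFacts N := by
  have h2 : (2 : F) ≠ 0 := fun h => by
    have hc : (Fintype.card F : F) = 0 := Nat.cast_card_eq_zero F
    obtain ⟨k, hk⟩ := hodd
    rw [hk, Nat.cast_add, Nat.cast_mul, Nat.cast_ofNat, h, zero_mul, zero_add, Nat.cast_one] at hc
    exact one_ne_zero hc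
  have ho : ∀ (x : G) (hx : x ∈ N), orderOf (e ⟨x, hx⟩) = orderOf x := fun x hx => by
    rw [MulEquiv.orderOf_eq, orderOf_mk]
  have h1 : ∀ (x : G) (hx : x ∈ N), x ≠ 1 → e ⟨x, hx⟩ ≠ 1 := fun x hx hne h =>
    hne (congrArg Subtype.val ((MulEquiv.map_eq_one_iff e).1 h))
  have hm : ∀ (x y z w : G) (hx : x ∈ N) (hy : y ∈ N) (hz : z ∈ N) (hw : w ∈ N), x * y = z * w →
      e ⟨x, hx⟩ * e ⟨y, hy⟩ = e ⟨z, hz⟩ * e ⟨w, hw⟩ := fun x y z w hx hy hz hw h => by
    rw [← map_mul, ← map_mul]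
    exact congrArg e (Subtype.ext h)
  refine ⟨fun b hb w hw v hv hob hb1 hw1 hw2 hv1 hv2 hbw hbv => ?_,
    fun x hx y hy w hw hox hoy hw1 hw2 hxw hyw => ?_⟩
  · have hsq : ∀ (z : G) (hz : z ∈ N), z * z = 1 → e ⟨z, hz⟩ * e ⟨z, hz⟩ = 1 := fun z hz h => by
      rw [← map_mul, show (⟨z, hz⟩ : N) * ⟨z, hz⟩ = 1 from Subtype.ext h, map_one]
    exact congrArg Subtype.val (e.injective (invol_unique h2 (by rw [ho b hb]; exact hob) (h1 b hb hb1)
      (h1 w hw hw1) (hsq w hw hw2) (h1 v hv hv1) (hsq v hv hv2) (hm _ _ _ _ hb hw hw hb hbw)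
      (hm _ _ _ _ hb hv hv hb hbv)))
  · have h := odd_comm h2 (by rw [ho x hx]; exact hox) (by rw [ho y hy]; exact hoy) (h1 w hw hw1)
      (by rw [← map_mul, show (⟨w, hw⟩ : N) * ⟨w, hw⟩ = 1 from Subtype.ext hw2, map_one])
      (hm _ _ _ _ hx hw hw hx hxw) (hm _ _ _ _ hy hw hw hy hyw)
    rw [← map_mul, ← map_mul] at h
    exact congrArg Subtype.val (e.injective h)

variable [Finite G] {t : G} (D : JankoRee.Setup t)

theorem comm_S {a b : G} (ha : a ∈ (D.S : Subgroup G)) (hb : b ∈ (D.S : Subgroup G)) : a * b = b * a := by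
  have ha2 : a⁻¹ = a := inv_eq_of_mul_eq_one_right (D.hS2 a ha)
  have hb2 : b⁻¹ = b := inv_eq_of_mul_eq_one_right (D.hS2 b hb)
  conv_lhs => rw [← inv_eq_of_mul_eq_one_right (D.hS2 _ (mul_mem ha hb)), _root_.mul_inv_rev, ha2, hb2]

theorem r_comm_t : D.r * t = t * D.r := mem_centralizer_singleton_iff.1 (D.hN D.hrN)

theorem t_not_mem_V (ht : orderOf t = 2) : t ∉ D.V := fun h => by
  have := D.hrfix t h (by rw [r_comm_t D, mul_inv_cancel_right])
  rw [this, orderOf_one] at ht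
  norm_num at ht

/-- A property preserved by the element of order three holds on all involutions of `V` once it holds on one. -/
theorem reach {P : G → Prop} (hP : ∀ x ∈ D.V, P x → P (D.r * x * D.r⁻¹)) {v : G} (hv : v ∈ D.V) (hv1 : v ≠ 1)
    (h : P v) {w : G} (hw : w ∈ D.V) (hw1 : w ≠ 1) : P w := by
  have hsq : ∀ x ∈ D.V, x * x = 1 := fun x hx => D.hS2 x (D.hVS hx)
  set a := D.r * v * D.r⁻¹ with ha
  have haV : a ∈ D.V := D.hrV v hv
  have ha1 : a ≠ 1 := fun e => hv1 (conj_eq_one_iff.1 e)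
  have hva : v ≠ a := fun e => hv1 (D.hrfix v hv e.symm)
  set z := D.r * a * D.r⁻¹ with hz
  rcases JankoRee.four_cases D.card_V hsq hv haV hv1 ha1 hva (D.hrV a haV) with e | e | e | e
  · exact absurd (conj_eq_one_iff.1 e) ha1
  · exfalso
    have h3 : D.r * (v * a) * D.r⁻¹ = v * a := by
      calc D.r * (v * a) * D.r⁻¹ = a * (D.r * a * D.r⁻¹) := by rw [ha]; group
        _ = v * a := by rw [e, comm_S D (D.hVS haV) (D.hVS hv)]
    have h4 := D.hrfix _ (mul_mem hv haV) h3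
    exact hva (by rw [eq_inv_of_mul_eq_one_left h4, inv_eq_of_mul_eq_one_right (hsq a haV)])
  · exact absurd (D.hrfix a haV e) ha1
  rcases JankoRee.four_cases D.card_V hsq hv haV hv1 ha1 hva hw with e' | e' | e' | e'
  · exact absurd e' hw1
  · exact e' ▸ h
  · exact e' ▸ hP v hv h
  · rw [e', ← e]
    exact hP a haV (hP v hv h)

theorem ncard_V_sdiff : ((D.V : Set G) \ {1}).ncard = 3 := by
  rw [Set.ncard_sdiff (Set.singleton_subset_iff.2 (one_mem D.V)), ← Nat.card_coe_set_eq, Set.ncard_singleton]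
  show Nat.card D.V - 1 = 3
  rw [D.card_V]

theorem dec' (ht : orderOf t = 2) {x : G} (hx : x ∈ (D.S : Subgroup G)) (h1 : x ≠ 1) (hxt : x ≠ t) :
    ∃ v ∈ D.V, v ≠ 1 ∧ (x = v ∨ x = v * t) := by
  obtain ⟨v, hv, a, ha, rfl⟩ := D.dec x hx
  obtain ⟨i, rfl⟩ := mem_zpowers_iff.1 ha
  have h2 : t ^ (2 : ℤ) = 1 := by rw [zpow_ofNat, pow_two]; exact Invol.mul_self ht
  have he : t ^ i = 1 ∨ t ^ i = t := by
    rcases Int.even_or_odd i with ⟨j, rfl⟩ | ⟨j, rfl⟩
    · left; rw [← two_mul, zpow_mul, h2, one_zpow]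
    · right; rw [zpow_add, zpow_mul, h2, one_zpow, one_mul, zpow_one]
  refine ⟨v, hv, fun hv1 => ?_, ?_⟩
  · subst hv1
    rcases he with e | e <;> rw [e] at h1 hxt
    · exact h1 (one_mul _)
    · exact hxt (one_mul _)
  · rcases he with e | e <;> rw [e]
    · left; exact mul_one v
    · right; rfl

/-- A subgroup containing the centraliser of `t` fixes `t` or is transitive on the involutions of `S`. -/
theorem fix_or_trans (ht : orderOf t = 2) {H : Subgroup G} (hCH : centralizer ({t} : Set G) ≤ H) :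
    (∀ n ∈ H, n ∈ normalizer ((D.S : Subgroup G) : Set G) → n * t * n⁻¹ = t) ∨
      ∀ s ∈ (D.S : Subgroup G), s ≠ 1 → ∃ n ∈ H, n ∈ normalizer ((D.S : Subgroup G) : Set G) ∧ n * t * n⁻¹ = s := by
  classical
  haveI : Fact (Nat.Prime 2) := ⟨Nat.prime_two⟩
  set N := H ⊓ normalizer ((D.S : Subgroup G) : Set G) with hN
  set K : Subgroup (ConjAct G) := N.map ConjAct.toConjAct.toMonoidHom with hK
  set O : Set G := MulAction.orbit K t with hO
  have hmem : ∀ x, x ∈ O ↔ ∃ n ∈ N, n * t * n⁻¹ = x := by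
    intro x
    constructor
    · rintro ⟨⟨_, n, hn, rfl⟩, rfl⟩; exact ⟨n, hn, rfl⟩
    · rintro ⟨n, hn, rfl⟩; exact ⟨⟨_, mem_map_of_mem _ hn⟩, rfl⟩
  have hOS : ∀ x ∈ O, x ∈ (D.S : Subgroup G) ∧ x ≠ 1 := by
    intro x hx
    obtain ⟨n, hn, rfl⟩ := (hmem x).1 hx
    refine ⟨(mem_normalizer_iff.1 hn.2 t).1 D.htS, fun e => ?_⟩
    rw [conj_eq_one_iff] at e
    rw [e, orderOf_one] at ht
    norm_num at ht
  have hSN : (D.S : Subgroup G) ≤ N := le_inf (D.hSC.trans hCH) le_normalizer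
  have hrN : D.r ∈ N := ⟨hCH (D.hN D.hrN), D.hrS⟩
  have hclosed : ∀ n ∈ N, ∀ x ∈ O, n * x * n⁻¹ ∈ O := by
    intro n hn x hx
    obtain ⟨m, hm, rfl⟩ := (hmem x).1 hx
    exact (hmem _).2 ⟨n * m, mul_mem hn hm, by group⟩
  have hodd : ¬ 2 ∣ O.ncard := by
    rw [← MulAction.index_stabilizer]
    intro h2
    set S' : Subgroup (ConjAct G) := (D.S : Subgroup G).map ConjAct.toConjAct.toMonoidHom with hS'
    have hle : S'.subgroupOf K ≤ MulAction.stabilizer K t := by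
      rintro ⟨x, hxK⟩ hx
      obtain ⟨s, hs, rfl⟩ := (mem_subgroupOf.1 hx : x ∈ S')
      rw [MulAction.mem_stabilizer_iff]
      show s * t * s⁻¹ = t
      rw [comm_S D hs D.htS, mul_inv_cancel_right]
    have h3 : 2 ∣ S'.index := by
      rw [← relIndex_mul_index (map_mono hSN : S' ≤ K)]
      exact dvd_mul_of_dvd_left (h2.trans (index_dvd_of_le hle)) _
    exact D.S.not_dvd_index ((index_map_equiv (D.S : Subgroup G) (ConjAct.toConjAct (G := G))) ▸ h3)
  have hX : ∀ (a : G), a * D.r = D.r * a → ∀ v ∈ D.V, v ≠ 1 → v * a ∈ O → ∀ w ∈ D.V, w ≠ 1 → w * a ∈ O := by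
    intro a ha v hv hv1 hvO w hw hw1
    refine reach D (P := fun x => x * a ∈ O) (fun x _ hxO => ?_) hv hv1 hvO hw hw1
    show D.r * x * D.r⁻¹ * a ∈ O
    have h := hclosed _ hrN _ hxO
    have hra : D.r * a * D.r⁻¹ = a := by rw [← ha, mul_inv_cancel_right]
    rwa [show D.r * (x * a) * D.r⁻¹ = D.r * x * D.r⁻¹ * (D.r * a * D.r⁻¹) by group, hra] at h
  by_cases hfix : ∀ n ∈ H, n ∈ normalizer ((D.S : Subgroup G) : Set G) → n * t * n⁻¹ = t
  · exact Or.inl hfix
  right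
  push Not at hfix
  obtain ⟨n, hnH, hnN, hne⟩ := hfix
  have htO : t ∈ O := MulAction.mem_orbit_self t
  have hxO : n * t * n⁻¹ ∈ O := (hmem _).2 ⟨n, ⟨hnH, hnN⟩, rfl⟩
  obtain ⟨hxS, hx1⟩ := hOS _ hxO
  obtain ⟨v, hv, hv1, hvx⟩ := dec' D ht hxS hx1 hne
  -- both cosets are met
  have hboth : (∀ w ∈ D.V, w ≠ 1 → w ∈ O) ∧ ∀ w ∈ D.V, w ≠ 1 → w * t ∈ O := by
    by_contra hcon
    have key : ∀ a : G, a * D.r = D.r * a → v * a ∈ O →
        (∀ x ∈ O, x = t ∨ ∃ w ∈ D.V, w ≠ 1 ∧ x = w * a) → False := by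
      intro a ha hva hall
      have hOeq : O = insert t ((fun w => w * a) '' ((D.V : Set G) \ {1})) := by
        ext x
        constructor
        · intro hx
          rcases hall x hx with e | ⟨w, hw, hw1, rfl⟩
          · exact Or.inl e
          · exact Or.inr ⟨w, ⟨hw, hw1⟩, rfl⟩
        · rintro (rfl | ⟨w, ⟨hw, hw1⟩, rfl⟩)
          · exact htO
          · exact hX a ha v hv hv1 hva w hw hw1
      have hnot : t ∉ (fun w => w * a) '' ((D.V : Set G) \ {1}) := by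
        rintro ⟨w, ⟨hw, hw1⟩, e⟩
        have hr : D.r * w * D.r⁻¹ = w := by
          have hwa : w = t * a⁻¹ := by rw [← e]; exact (mul_inv_cancel_right w a).symm
          have h1 : D.r * a⁻¹ = a⁻¹ * D.r := ((show Commute D.r a from ha.symm).inv_right).eq
          rw [hwa, ← mul_assoc, r_comm_t D, mul_assoc t, h1, ← mul_assoc, mul_inv_cancel_right]
        exact hw1 (D.hrfix w hw hr)
      refine hodd ⟨2, ?_⟩
      rw [hOeq, Set.ncard_insert_of_notMem hnot (Set.toFinite _),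
        Set.ncard_image_of_injective _ (mul_left_injective a), ncard_V_sdiff]
    have hX1 : ∀ u ∈ D.V, u ≠ 1 → u ∈ O → ∀ w ∈ D.V, w ≠ 1 → w ∈ O := fun u hu hu1 huO w hw hw1 => by
      have h := hX 1 (by rw [one_mul, mul_one]) u hu hu1 (by rw [mul_one]; exact huO) w hw hw1
      rwa [mul_one] at h
    rcases not_and_or.1 hcon with h | h <;> push Not at h <;> obtain ⟨w₀, hw₀, hw₀1, hw₀O⟩ := h
    · have hvt : v * t ∈ O := by
        rcases hvx with e | e
        · exact absurd (hX1 v hv hv1 (e ▸ hxO) w₀ hw₀ hw₀1) hw₀O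
        · rw [← e]; exact hxO
      refine key t (r_comm_t D).symm hvt fun x hx => ?_
      by_cases hxt : x = t
      · exact Or.inl hxt
      obtain ⟨w, hw, hw1, e | e⟩ := dec' D ht (hOS x hx).1 (hOS x hx).2 hxt
      · exact absurd (hX1 w hw hw1 (e ▸ hx) w₀ hw₀ hw₀1) hw₀O
      · exact Or.inr ⟨w, hw, hw1, e⟩
    · have hv' : v * 1 ∈ O := by
        rcases hvx with e | e
        · rw [mul_one, ← e]; exact hxO
        · exact absurd (hX t (r_comm_t D).symm v hv hv1 (by rw [← e]; exact hxO) w₀ hw₀ hw₀1) hw₀O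
      refine key 1 (by rw [one_mul, mul_one]) hv' fun x hx => ?_
      by_cases hxt : x = t
      · exact Or.inl hxt
      obtain ⟨w, hw, hw1, e | e⟩ := dec' D ht (hOS x hx).1 (hOS x hx).2 hxt
      · exact Or.inr ⟨w, hw, hw1, by rw [mul_one]; exact e⟩
      · exact absurd (hX t (r_comm_t D).symm w hw hw1 (by rw [← e]; exact hx) w₀ hw₀ hw₀1) hw₀O
  intro s hs hs1
  suffices s ∈ O by
    obtain ⟨m, hm, he⟩ := (hmem s).1 this
    exact ⟨m, hm.1, hm.2, he⟩
  by_cases hst : s = t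
  · exact hst ▸ htO
  obtain ⟨w, hw, hw1, e | e⟩ := dec' D ht hs hs1 hst
  · exact e ▸ hboth.1 w hw hw1
  · exact e ▸ hboth.2 w hw hw1

end Cfsg.Agent.MaxCent
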