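import Cfsg.Agent.S0802
import Cfsg.Agent.S0343
import Cfsg.Agent.Lib.Classical.ProjLine
import Cfsg.Agent.Lib.JankoRee.Transfer
import Cfsg.Agent.Lib.Involutions.Basic
import Cfsg.Agent.Lib.SEBrick.Basic

/-!
No simple group with abelian Sylow 2-subgroups has an involution centraliser `⟨t⟩ × E`, `PSL₂(3) ⊴ E`.
-/

set_option autoImplicit false
set_option linter.style.haveILetI false

namespace Cfsg.Agent.MaxCent

open Subgroup

set_option synthInstance.maxSize 100000 in
set_option synthInstance.maxHeartbeats 400000 in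
theorem alt4_table : ∀ a i : alternatingGroup (Fin 4), (a * a = 1 ∧ i * i = 1 ∧ a ≠ 1 ∧ i ≠ 1 ∧ a ≠ i) →
    ∀ y : alternatingGroup (Fin 4), (y * y * y = 1 ∧ y ≠ 1) → ∀ z : alternatingGroup (Fin 4),
    (z * z * z = 1 ∧ z * a * z⁻¹ = y * a * y⁻¹ ∧ z * i * z⁻¹ = y * i * y⁻¹) →
    ∃ w : alternatingGroup (Fin 4), w * w = 1 ∧ w * y * w⁻¹ = z := by
  decide +kernel

set_option synthInstance.maxSize 100000 in
set_option synthInstance.maxHeartbeats 400000 in
theorem alt4_shape : ∀ a i : alternatingGroup (Fin 4), (a * a = 1 ∧ i * i = 1 ∧ a ≠ 1 ∧ i ≠ 1 ∧ a ≠ i) →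
    ∀ y : alternatingGroup (Fin 4), (y * y * y = 1 ∧ y ≠ 1) → ∀ g : alternatingGroup (Fin 4),
      (∃ w : alternatingGroup (Fin 4), w * w = 1 ∧ (g = w ∨ g = w * y ∨ g = w * y * y)) ∧
        (g * g = 1 → g = 1 ∨ g = a ∨ g = i ∨ g = a * i) ∧
        (g * g = 1 → g ≠ 1 → g = a ∨ y * g * y⁻¹ = a ∨ y * (y * g * y⁻¹) * y⁻¹ = a) := by
  decide +kernel

theorem alt4_data : ∃ a i y : alternatingGroup (Fin 4), a * a = 1 ∧ i * i = 1 ∧ a ≠ 1 ∧ i ≠ 1 ∧ a ≠ i ∧
    y * y * y = 1 ∧ y ≠ 1 ∧ a * i = i * a := by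
  decide +kernel

theorem psl_three_alt {F : Type*} [Field F] [Fintype F] (h3 : Fintype.card F = 3) :
    Nonempty (Matrix.ProjectiveSpecialLinearGroup (Fin 2) F ≃* alternatingGroup (Fin 4)) := by
  haveI : Fact (Nat.Prime 3) := ⟨Nat.prime_three⟩
  haveI : CharP F 3 := charP_of_card_eq_prime (by rw [← h3])
  obtain ⟨H, ⟨e⟩⟩ := (Cfsg.Agent.S0802.result (F := F) 3 1 (by rw [h3, pow_one])).2 (fun h => by omega)
  have hP : Nat.card (Matrix.ProjectiveSpecialLinearGroup (Fin 2) F) = 12 := by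
    have h := ProjLine.two_mul_card_psl (F := F)
    rw [Nat.card_eq_fintype_card (α := F), h3] at h
    norm_num at h
    omega
  have hH : H = ⊤ := eq_top_of_card_eq H (by
    rw [Nat.card_congr e.toEquiv, hP, nat_card_alternatingGroup, Nat.card_fin]; rfl)
  exact ⟨(topEquiv.symm.trans (MulEquiv.subgroupCongr hH.symm)).trans e⟩

variable {G : Type*} [Group G] [Finite G]

theorem false_of_three [IsSimpleGroup G] (hab : ∀ P : Sylow 2 G, ∀ a b : P, a * b = b * a) {t : G}
    (ht : orderOf t = 2) (N : Subgroup G) (hN : N ≤ centralizer ({t} : Set G))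
    (hnorm : centralizer ({t} : Set G) ≤ normalizer (N : Set G))
    (hcent : ∀ c ∈ centralizer ({t} : Set G), (∀ x ∈ N, c * x = x * c) → c ∈ zpowers t) (htN : t ∉ N)
    {F : Type*} [Field F] [Fintype F] (h3 : Fintype.card F = 3)
    (e : N ≃* Matrix.ProjectiveSpecialLinearGroup (Fin 2) F) : False := by
  haveI : Fact (Nat.Prime 2) := ⟨Nat.prime_two⟩
  obtain ⟨f⟩ := psl_three_alt h3
  set φ : N ≃* alternatingGroup (Fin 4) := e.trans f with hφ
  obtain ⟨a, i, y, ha2, hi2, ha1, hi1, hai, hy3, hy1, hcomm⟩ := alt4_data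
  set A : G := ((φ.symm a : N) : G) with hA
  set I : G := ((φ.symm i : N) : G) with hI
  set Y : G := ((φ.symm y : N) : G) with hY
  -- translation from `N`
  have hval : ∀ x : N, φ x * φ x = 1 ↔ (x : G) * x = 1 := fun x => by
    rw [← map_mul, MulEquiv.map_eq_one_iff, ← coe_mul, OneMemClass.coe_eq_one]
  have hshape := alt4_shape a i ⟨ha2, hi2, ha1, hi1, hai⟩ y ⟨hy3, hy1⟩
  have hA2 : A * A = 1 := (hval _).1 (by rw [φ.apply_symm_apply]; exact ha2)
  have hI2 : I * I = 1 := (hval _).1 (by rw [φ.apply_symm_apply]; exact hi2)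
  have hA1 : A ≠ 1 := fun h => ha1 (φ.symm.injective ((Subtype.ext h).trans (map_one _).symm))
  have hI1 : I ≠ 1 := fun h => hi1 (φ.symm.injective ((Subtype.ext h).trans (map_one _).symm))
  have hAI : A * I = I * A := by rw [hA, hI, ← coe_mul, ← coe_mul, ← map_mul, ← map_mul, hcomm]
  have four : ∀ g ∈ N, g * g = 1 → g = 1 ∨ g = A ∨ g = I ∨ g = A * I := by
    intro g hg hg2
    rcases (hshape (φ ⟨g, hg⟩)).2.1 ((hval ⟨g, hg⟩).2 hg2) with h | h | h | h <;>
      have h' := congrArg (fun z => ((φ.symm z : N) : G)) h <;> simp only [MulEquiv.symm_apply_apply] at h'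
    · exact Or.inl (by simpa using h')
    · exact Or.inr (Or.inl h')
    · exact Or.inr (Or.inr (Or.inl h'))
    · exact Or.inr (Or.inr (Or.inr (by simpa using h')))
  have hsqconj : ∀ (c v : G), v * v = 1 → c * v * c⁻¹ * (c * v * c⁻¹) = 1 := fun c v hv => by
    rw [show c * v * c⁻¹ * (c * v * c⁻¹) = c * (v * v) * c⁻¹ by group, hv, mul_one, mul_inv_cancel]
  have hNconj : ∀ c ∈ centralizer ({t} : Set G), ∀ v ∈ N, c * v * c⁻¹ ∈ N := fun c hc v hv =>
    SEBrick.conj_mem_of (hnorm hc) hv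
  let V : Subgroup G :=
    { carrier := {g | g ∈ N ∧ g * g = 1}
      one_mem' := ⟨one_mem _, mul_one 1⟩
      mul_mem' := by
        rintro x z ⟨hx, hx2⟩ ⟨hz, hz2⟩
        refine ⟨mul_mem hx hz, ?_⟩
        have key : ∀ u v : G, (u = 1 ∨ u = A ∨ u = I ∨ u = A * I) → (v = 1 ∨ v = A ∨ v = I ∨ v = A * I) →
            u * v = v * u := by
          have hAA : Commute A (A * I) := (Commute.refl A).mul_right hAI
          have hII : Commute I (A * I) := (show Commute I A from hAI.symm).mul_right (Commute.refl I)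
          rintro u v (rfl | rfl | rfl | rfl) (rfl | rfl | rfl | rfl) <;>
            first
              | rfl
              | simp
              | exact hAI
              | exact hAI.symm
              | exact hAA
              | exact hAA.symm
              | exact hII
              | exact hII.symm
        have hc := key x z (four x hx hx2) (four z hz hz2)
        calc x * z * (x * z) = x * (z * x) * z := by group
          _ = (x * x) * (z * z) := by rw [← hc]; group
          _ = 1 := by rw [hx2, hz2, mul_one]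
      inv_mem' := fun {x} ⟨hx, hx2⟩ => ⟨inv_mem hx, by rw [← _root_.mul_inv_rev, hx2, inv_one]⟩ }
  have hV2 : IsPGroup 2 V := fun x => ⟨1, Subtype.ext (by
    show (x : G) ^ 2 ^ 1 = 1
    rw [pow_one, pow_two]; exact x.2.2)⟩
  -- elements of 2-power order of the centraliser centralise `V`
  have h2cent : ∀ c ∈ centralizer ({t} : Set G), (∃ k : ℕ, c ^ 2 ^ k = 1) → ∀ v ∈ V, c * v * c⁻¹ = v := by
    rintro c hc ⟨k, hk⟩ v hv
    have hz : IsPGroup 2 (zpowers c) := by
      obtain ⟨j, -, hj⟩ := (Nat.dvd_prime_pow Nat.prime_two).1 (orderOf_dvd_of_pow_eq_one hk)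
      exact IsPGroup.of_card (n := j) (by rw [Nat.card_zpowers, hj])
    have hn : zpowers c ≤ normalizer (V : Set G) := zpowers_le.2 (SEBrick.mem_normalizer_of
      fun x hx => ⟨hNconj c hc x hx.1, hsqconj c x hx.2⟩)
    obtain ⟨P, hP⟩ := (hz.to_sup_of_normal_right' hV2 hn).exists_le_sylow
    have h := congrArg Subtype.val (hab P ⟨c, hP (mem_sup_left (mem_zpowers c))⟩ ⟨v, hP (mem_sup_right hv)⟩)
    exact mul_inv_eq_iff_eq_mul.2 h
  have hYN : Y ∈ N := (φ.symm y).2
  have hY3 : Y * Y * Y = 1 := by rw [hY, ← coe_mul, ← coe_mul, ← map_mul, ← map_mul, hy3, map_one, coe_one]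
  have hAV : A ∈ V := ⟨(φ.symm a).2, hA2⟩
  have hIV : I ∈ V := ⟨(φ.symm i).2, hI2⟩
  -- every element of the centraliser lies in `⟨t⟩ N`
  have hdec : ∀ c ∈ centralizer ({t} : Set G), ∃ x ∈ N, x⁻¹ * c ∈ zpowers t := by
    intro c hc
    obtain ⟨p, hp, hpA⟩ : ∃ p ∈ N, p * (c * A * c⁻¹) * p⁻¹ = A := by
      have hg := hNconj c hc A hAV.1
      have h1 : c * A * c⁻¹ ≠ 1 := fun h => hA1 (conj_eq_one_iff.1 h)
      have h := (hshape (φ ⟨_, hg⟩)).2.2 ((hval ⟨_, hg⟩).2 (hsqconj c A hA2))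
        (fun h => h1 (congrArg Subtype.val ((MulEquiv.map_eq_one_iff φ).1 h)))
      rcases h with h | h | h <;> have h' := congrArg (fun z => ((φ.symm z : N) : G)) h <;>
        simp only [map_mul, map_inv, MulEquiv.symm_apply_apply, coe_mul, coe_inv] at h'
      · exact ⟨1, one_mem _, by rw [one_mul, inv_one, mul_one]; exact h'⟩
      · exact ⟨Y, hYN, h'⟩
      · refine ⟨Y * Y, mul_mem hYN hYN, ?_⟩
        refine Eq.trans ?_ h'
        rw [hY, hA]
        group
    set c' := p * c with hc'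
    have hc'C : c' ∈ centralizer ({t} : Set G) := mul_mem (hN hp) hc
    have hfA : c' * A * c'⁻¹ = A := by
      rw [hc']
      calc p * c * A * (p * c)⁻¹ = p * (c * A * c⁻¹) * p⁻¹ := by group
        _ = A := hpA
    have hfI : c' * I * c'⁻¹ = I := by
      rcases four _ (hNconj c' hc'C I hIV.1) (hsqconj c' I hI2) with h | h | h | h
      · exact absurd (conj_eq_one_iff.1 h) hI1
      · exfalso
        have : c' * A * c'⁻¹ = c' * I * c'⁻¹ := by rw [hfA, h]
        exact hai (φ.symm.injective (Subtype.ext ((mul_left_cancel (mul_right_cancel this)))))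
      · exact h
      · exfalso
        have hsq2 : c' * c' * I * (c' * c')⁻¹ = I := by
          calc c' * c' * I * (c' * c')⁻¹ = c' * (c' * I * c'⁻¹) * c'⁻¹ := by group
            _ = c' * (A * I) * c'⁻¹ := by rw [h]
            _ = (c' * A * c'⁻¹) * (c' * I * c'⁻¹) := by group
            _ = (A * A) * I := by rw [hfA, h, ← mul_assoc]
            _ = I := by rw [hA2, one_mul]
        obtain ⟨j, m, hm, he⟩ := Nat.exists_eq_two_pow_mul_odd (orderOf_pos c').ne'
        have h2 := h2cent (c' ^ m) (pow_mem hc'C m) ⟨j, by rw [← pow_mul, mul_comm, ← he, pow_orderOf_eq_one]⟩ I hIV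
        obtain ⟨k, hk⟩ := hm
        have hev : ∀ k : ℕ, (c' * c') ^ k * I * ((c' * c') ^ k)⁻¹ = I := fun k => by
          induction k with
          | zero => simp
          | succ k ih =>
            calc (c' * c') ^ (k + 1) * I * ((c' * c') ^ (k + 1))⁻¹
                = (c' * c') ^ k * (c' * c' * I * (c' * c')⁻¹) * ((c' * c') ^ k)⁻¹ := by rw [pow_succ]; group
              _ = I := by rw [hsq2, ih]
        have : c' * I * c'⁻¹ = I := by
          conv_rhs => rw [← h2]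
          rw [hk, pow_succ', pow_mul, pow_two]
          calc c' * I * c'⁻¹ = c' * ((c' * c') ^ k * I * ((c' * c') ^ k)⁻¹) * c'⁻¹ := by rw [hev k]
            _ = _ := by group
        rw [h] at this
        exact hA1 (mul_eq_right.1 this)
    -- `c'` acts on `N` like an element of `V`
    have hz := hNconj c' hc'C Y hYN
    have hz3 : (⟨_, hz⟩ : N) * ⟨_, hz⟩ * ⟨_, hz⟩ = 1 := Subtype.ext (by
      show c' * Y * c'⁻¹ * (c' * Y * c'⁻¹) * (c' * Y * c'⁻¹) = 1
      rw [show c' * Y * c'⁻¹ * (c' * Y * c'⁻¹) * (c' * Y * c'⁻¹) = c' * (Y * Y * Y) * c'⁻¹ by group, hY3,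
        mul_one, mul_inv_cancel])
    have hz3' : φ ⟨_, hz⟩ * φ ⟨_, hz⟩ * φ ⟨_, hz⟩ = 1 := by rw [← map_mul, ← map_mul, hz3, map_one]
    have hact : ∀ b : alternatingGroup (Fin 4), b * b = 1 →
        φ ⟨_, hz⟩ * b * (φ ⟨_, hz⟩)⁻¹ = y * b * y⁻¹ := by
      intro b hb
      refine φ.symm.injective (Subtype.ext ?_)
      simp only [map_mul, map_inv, MulEquiv.symm_apply_apply, coe_mul, coe_inv]
      rw [← hY]
      set B : G := ((φ.symm b : N) : G) with hB
      have hB2 : B * B = 1 := (hval _).1 (by rw [φ.apply_symm_apply]; exact hb)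
      have hfix : ∀ g ∈ N, g * g = 1 → c' * g * c'⁻¹ = g := by
        intro g hg hg2
        rcases four g hg hg2 with rfl | rfl | rfl | rfl
        · group
        · exact hfA
        · exact hfI
        · calc c' * (A * I) * c'⁻¹ = (c' * A * c'⁻¹) * (c' * I * c'⁻¹) := by group
            _ = A * I := by rw [hfA, hfI]
      have hBN : B ∈ N := (φ.symm b).2
      have h1 := hfix B hBN hB2
      have h2 := hfix (Y * B * Y⁻¹) (mul_mem (mul_mem hYN hBN) (inv_mem hYN)) (hsqconj Y B hB2)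
      calc c' * Y * c'⁻¹ * B * (c' * Y * c'⁻¹)⁻¹ = c' * Y * c'⁻¹ * (c' * B * c'⁻¹) * (c' * Y * c'⁻¹)⁻¹ := by
            rw [h1]
        _ = c' * (Y * B * Y⁻¹) * c'⁻¹ := by group
        _ = Y * B * Y⁻¹ := h2
    obtain ⟨w, hw2, hwy⟩ := alt4_table a i ⟨ha2, hi2, ha1, hi1, hai⟩ y ⟨hy3, hy1⟩ _ ⟨hz3', hact a ha2, hact i hi2⟩
    set W : G := ((φ.symm w : N) : G) with hW
    have hWV : W ∈ V := ⟨(φ.symm w).2, (hval _).1 (by rw [φ.apply_symm_apply]; exact hw2)⟩
    have hWY : W * Y * W⁻¹ = c' * Y * c'⁻¹ := by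
      have h := congrArg (fun z => ((φ.symm z : N) : G)) hwy
      simp only [map_mul, map_inv, MulEquiv.symm_apply_apply, coe_mul, coe_inv] at h
      exact h
    refine ⟨p⁻¹ * W, mul_mem (inv_mem hp) hWV.1, ?_⟩
    rw [show (p⁻¹ * W)⁻¹ * c = W⁻¹ * c' by rw [hc']; group]
    refine hcent _ (mul_mem (inv_mem (hN hWV.1)) hc'C) fun x hx => mul_inv_eq_iff_eq_mul.1 ?_
    have hfix : ∀ g ∈ N, g * g = 1 → (W⁻¹ * c') * g * (W⁻¹ * c')⁻¹ = g := by
      intro g hg hg2
      have h1 : c' * g * c'⁻¹ = g := by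
        rcases four g hg hg2 with rfl | rfl | rfl | rfl
        · group
        · exact hfA
        · exact hfI
        · calc c' * (A * I) * c'⁻¹ = (c' * A * c'⁻¹) * (c' * I * c'⁻¹) := by group
            _ = A * I := by rw [hfA, hfI]
      have hWg : W * g = g * W := by
        have h : W * g * (W * g) = 1 := (V.mul_mem hWV ⟨hg, hg2⟩).2
        rw [← inv_eq_of_mul_eq_one_right h, _root_.mul_inv_rev, inv_eq_of_mul_eq_one_right hg2,
          inv_eq_of_mul_eq_one_right hWV.2]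
      calc W⁻¹ * c' * g * (W⁻¹ * c')⁻¹ = W⁻¹ * (c' * g * c'⁻¹) * W := by group
        _ = W⁻¹ * (g * W) := by rw [h1, mul_assoc]
        _ = g := by rw [← hWg, inv_mul_cancel_left]
    have hfY : (W⁻¹ * c') * Y * (W⁻¹ * c')⁻¹ = Y := by
      calc W⁻¹ * c' * Y * (W⁻¹ * c')⁻¹ = W⁻¹ * (c' * Y * c'⁻¹) * W := by group
        _ = Y := by rw [← hWY]; group
    obtain ⟨⟨v, hv2, hv⟩, -⟩ := hshape (φ ⟨x, hx⟩)
    have hvV := hfix ((φ.symm v : N) : G) (φ.symm v).2 ((hval _).1 (by rw [φ.apply_symm_apply]; exact hv2))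
    rcases hv with h | h | h <;> have h' := congrArg (fun z => ((φ.symm z : N) : G)) h <;>
      simp only [map_mul, MulEquiv.symm_apply_apply, coe_mul] at h' <;> rw [h']
    · exact hvV
    · calc W⁻¹ * c' * (((φ.symm v : N) : G) * Y) * (W⁻¹ * c')⁻¹
          = (W⁻¹ * c' * ((φ.symm v : N) : G) * (W⁻¹ * c')⁻¹) * (W⁻¹ * c' * Y * (W⁻¹ * c')⁻¹) := by group
        _ = _ := by rw [hvV, hfY]
    · calc W⁻¹ * c' * (((φ.symm v : N) : G) * Y * Y) * (W⁻¹ * c')⁻¹
          = (W⁻¹ * c' * ((φ.symm v : N) : G) * (W⁻¹ * c')⁻¹) * (W⁻¹ * c' * Y * (W⁻¹ * c')⁻¹) *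
              (W⁻¹ * c' * Y * (W⁻¹ * c')⁻¹) := by group
        _ = _ := by rw [hvV, hfY]
  -- the centraliser is `⟨t⟩ × N`
  have hzC : zpowers t ≤ centralizer ({t} : Set G) := zpowers_le.2 (mem_centralizer_singleton_iff.2 rfl)
  have hct : ∀ (p : zpowers t) (x : N), (p : G) * x = x * p := by
    rintro ⟨_, j, rfl⟩ ⟨x, hx⟩
    exact ((show Commute x t from mem_centralizer_singleton_iff.1 (hN hx)).zpow_right j).eq.symm
  let ψ : zpowers t × N →* centralizer ({t} : Set G) :=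
    MonoidHom.mk' (fun p => ⟨(p.1 : G) * p.2, mul_mem (hzC p.1.2) (hN p.2.2)⟩) fun p q => Subtype.ext (by
      show ((p.1 * q.1 : zpowers t) : G) * ((p.2 * q.2 : N) : G) = ((p.1 : G) * p.2) * ((q.1 : G) * q.2)
      rw [coe_mul, coe_mul]
      calc (p.1 : G) * q.1 * ((p.2 : G) * q.2) = p.1 * ((q.1 : G) * p.2) * q.2 := by group
        _ = _ := by rw [hct q.1 p.2]; group)
  have hψ : Function.Bijective ψ := by
    refine ⟨(injective_iff_map_eq_one ψ).2 fun p hp => ?_, fun c => ?_⟩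
    · have h : (p.1 : G) * p.2 = 1 := congrArg Subtype.val hp
      have h1 : (p.1 : G) ∈ N := by rw [eq_inv_of_mul_eq_one_left h]; exact inv_mem p.2.2
      obtain ⟨j, hj⟩ := p.1.2
      have hp1 : (p.1 : G) = 1 := by
        have h2 : t ^ (2 : ℤ) = 1 := by rw [zpow_ofNat, pow_two]; exact Invol.mul_self ht
        rcases Int.even_or_odd j with ⟨l, rfl⟩ | ⟨l, rfl⟩
        · rw [← hj]; show t ^ (l + l) = 1; rw [← two_mul, zpow_mul, h2, one_zpow]
        · exfalso
          apply htN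
          rw [← hj, show (fun n : ℤ => t ^ n) (2 * l + 1) = t by
            show t ^ (2 * l + 1) = t
            rw [zpow_add, zpow_mul, h2, one_zpow, one_mul, zpow_one]] at h1
          exact h1
      rw [hp1, one_mul] at h
      exact Prod.ext (Subtype.ext hp1) (Subtype.ext h)
    · obtain ⟨x, hx, hxc⟩ := hdec c c.2
      refine ⟨(⟨_, hxc⟩, ⟨x, hx⟩), Subtype.ext ?_⟩
      show x⁻¹ * (c : G) * x = c
      have h := hct ⟨_, hxc⟩ ⟨x, hx⟩
      rw [show ((⟨_, hxc⟩ : zpowers t) : G) = x⁻¹ * (c : G) from rfl] at h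
      rw [h]
      group
  have hz2 : Nat.card (zpowers t) = 2 := (Nat.card_zpowers t).trans ht
  have hm2 : Nat.card (Multiplicative (ZMod 2)) = 2 := by simp
  have E : centralizer ({t} : Set G) ≃* Multiplicative (ZMod 2) × Matrix.ProjectiveSpecialLinearGroup (Fin 2) F :=
    (MulEquiv.ofBijective ψ hψ).symm.trans ((mulEquivOfPrimeCardEq hz2 hm2).prodCongr e)
  rcases Cfsg.Agent.S0343.result hab (by omega) t ht ⟨E⟩ with ⟨m, hm, hq, -⟩ | ⟨h | h, -⟩
  · have : 3 ^ 3 ≤ 3 ^ (2 * m + 1) := Nat.pow_le_pow_right (by norm_num) (by omega)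
    omega
  · omega
  · omega

end Cfsg.Agent.MaxCent
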