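import Cfsg.Agent.Lib.MaxCent.Main
import Cfsg.Agent.Lib.MaxCent.Three
import Cfsg.Prelude.Def_TwoFusion

/-!
S1245 from Bender's theorem.
-/

set_option autoImplicit false
set_option linter.style.haveILetI false

namespace Cfsg.Agent.MaxCent

open Subgroup

universe u

theorem isCoatom_centralizer (hst : SEMain.Stmt.{u}) {G : Type u} [Group G] [Finite G] [IsSimpleGroup G]
    (hna : ¬ IsMulCommutative G) (S : Sylow 2 G) (hS : IsMulCommutative (S : Subgroup G)) (t : G) (ht : orderOf t = 2)
    (E E₀ : Subgroup G) (hprod : Cfsg.IsInternalDirectProduct (zpowers t) E (centralizer ({t} : Set G)))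
    (hE₀E : E₀ ≤ E) (hE₀n : (E₀.subgroupOf E).Normal) (F : Type) [Field F] [Fintype F]
    (hodd : Odd (Fintype.card F)) (e : E₀ ≃* Matrix.ProjectiveSpecialLinearGroup (Fin 2) F)
    (hCE : E ⊓ centralizer (E₀ : Set G) = ⊥) : IsCoatom (centralizer ({t} : Set G)) := by
  haveI : Fact (Nat.Prime 2) := ⟨Nat.prime_two⟩
  obtain ⟨hzC, hEC, hcomm, hinf, hsup⟩ := hprod
  have hab : ∀ P : Sylow 2 G, IsMulCommutative (P : Subgroup G) := fun P => by
    obtain ⟨g, hg⟩ := MulAction.exists_smul_eq G P S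
    refine ⟨⟨fun a b => Subtype.ext ?_⟩⟩
    have hm : ∀ x ∈ (P : Subgroup G), g * x * g⁻¹ ∈ (S : Subgroup G) := fun x hx => by
      rw [← hg, Sylow.coe_subgroup_smul]
      exact ⟨x, hx, rfl⟩
    have h := congrArg Subtype.val (hS.is_comm.comm (⟨_, hm _ a.2⟩ : (S : Subgroup G)) ⟨_, hm _ b.2⟩)
    change g * (a : G) * g⁻¹ * (g * b * g⁻¹) = g * b * g⁻¹ * (g * a * g⁻¹) at h
    rw [show g * (a : G) * g⁻¹ * (g * b * g⁻¹) = g * (a * b) * g⁻¹ by group,
      show g * (b : G) * g⁻¹ * (g * a * g⁻¹) = g * (b * a) * g⁻¹ by group, mul_left_inj, mul_right_inj] at h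
    exact h
  have hN : E₀ ≤ centralizer ({t} : Set G) := hE₀E.trans hEC
  have hnorm : centralizer ({t} : Set G) ≤ normalizer (E₀ : Set G) := by
    rw [← hsup, sup_le_iff]
    refine ⟨zpowers_le.2 (SEBrick.mem_normalizer_of fun x hx => ?_), fun g hg => SEBrick.mem_normalizer_of fun x hx => ?_⟩
    · rw [← mem_centralizer_singleton_iff.1 (hN hx), mul_inv_cancel_right]; exact hx
    · exact hE₀n.conj_mem ⟨x, hE₀E hx⟩ hx ⟨g, hg⟩
  have hcent : ∀ c ∈ centralizer ({t} : Set G), (∀ x ∈ E₀, c * x = x * c) → c ∈ zpowers t := by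
    intro c hc hcx
    have hEn : zpowers t ≤ normalizer (E : Set G) := fun a ha => SEBrick.mem_normalizer_of fun x hx => by
      rw [hcomm a ha x hx, mul_inv_cancel_right]; exact hx
    have hmem : c ∈ ((zpowers t ⊔ E : Subgroup G) : Set G) := hsup.symm ▸ hc
    rw [coe_mul_of_left_le_normalizer_right _ _ hEn] at hmem
    obtain ⟨a, ha, x, hx, rfl⟩ := Set.mem_mul.1 hmem
    have hx1 : x = 1 := mem_bot.1 (hCE ▸ ⟨hx, mem_centralizer_iff.2 fun y hy => ?_⟩)
    · rw [hx1, mul_one]; exact ha
    · have h := hcx y hy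
      rw [mul_assoc, ← mul_assoc y, ← hcomm a ha y (hE₀E hy), mul_assoc] at h
      exact (mul_left_cancel h).symm
  by_cases h3 : 3 < Fintype.card F
  · obtain ⟨D⟩ := JankoRee.exists_setup hab ht E₀ hN hnorm hcent hodd h3 e
    haveI := D.simple
    haveI : IsSimpleGroup E₀ := by
      haveI : IsSimpleGroup (Matrix.ProjectiveSpecialLinearGroup (Fin 2) F) :=
        Matrix.ProjectiveSpecialLinearGroup.rank_two_simple (by rw [Nat.card_eq_fintype_card]; omega)
      haveI : Nontrivial E₀ := e.toEquiv.nontrivial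
      exact IsSimpleGroup.isSimpleGroup_of_surjective e.symm.toMonoidHom e.symm.surjective
    have heq : D.N = E₀ := by
      haveI hn1 : (E₀.subgroupOf D.N).Normal := normal_subgroupOf_of_le_normalizer (D.hN.trans hnorm)
      haveI hn2 : (D.N.subgroupOf E₀).Normal := normal_subgroupOf_of_le_normalizer (hN.trans D.hnorm)
      rcases hn1.eq_bot_or_eq_top with h | h <;> rcases hn2.eq_bot_or_eq_top with h' | h'
      rotate_right
      · exact le_antisymm (subgroupOf_eq_top.1 h) (subgroupOf_eq_top.1 h')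
      all_goals exfalso
      all_goals
        have hdis : ∀ x ∈ D.N, x ∈ E₀ → x = 1 := fun x hx hx' => by
          first
            | exact congrArg Subtype.val ((eq_bot_iff_forall _).1 h ⟨x, hx⟩ hx')
            | exact congrArg Subtype.val ((eq_bot_iff_forall _).1 h' ⟨x, hx'⟩ hx)
        obtain ⟨v, hv, hv1⟩ : ∃ v ∈ D.V, v ≠ 1 := by
          by_contra hc
          push Not at hc
          have := D.card_V
          rw [(eq_bot_iff_forall _).2 hc, card_bot] at this
          omega
        have hvt : v ∈ zpowers t := hcent v (D.hN (D.hVN hv)) fun x hx => by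
          have h1 : v * x * v⁻¹ * x⁻¹ = 1 := hdis _
            (by
              rw [mul_assoc, mul_assoc, ← mul_assoc x]
              exact mul_mem (D.hVN hv) ((mem_normalizer_iff.1 (D.hnorm (hN hx)) _).1 (inv_mem (D.hVN hv))))
            (mul_mem ((mem_normalizer_iff.1 (hnorm (D.hN (D.hVN hv))) x).1 hx) (inv_mem hx))
          exact mul_inv_eq_iff_eq_mul.1 (mul_inv_eq_one.1 h1)
        rcases JankoRee.Setup.tsq D hvt with hh | hh
        · exact hv1 hh
        · exact t_not_mem_V D ht (hh ▸ hv)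
    have e' : D.N ≃* Matrix.ProjectiveSpecialLinearGroup (Fin 2) F := (MulEquiv.subgroupCongr heq).trans e
    exact isCoatom D (oddFacts_of_equiv hodd D.N e') hst hna ht
  · exfalso
    have hcard : Fintype.card F = 3 := by
      have := Fintype.one_lt_card (α := F)
      obtain ⟨k, hk⟩ := hodd
      omega
    refine false_of_three (fun P a b => (hab P).is_comm.comm a b) ht E₀ hN hnorm hcent (fun htE => ?_) hcard e
    have h : t ∈ zpowers t ⊓ E := ⟨mem_zpowers t, hE₀E htE⟩
    rw [hinf, mem_bot] at h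
    rw [h, orderOf_one] at ht
    norm_num at ht

end Cfsg.Agent.MaxCent
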