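import Cfsg.Agent.Lib.MaxCent.Basic

/-!
An odd subgroup inverted by `t` and normalised by the centraliser of `t` has no non-identity element centralised by an
involution of `V`, so it is trivial.
-/

set_option autoImplicit false
set_option linter.style.haveILetI false
set_option linter.unusedSectionVars false

namespace Cfsg.Agent.MaxCent

open Subgroup

universe u

variable {G : Type u} [Group G] [Finite G] {t : G}

theorem eq_one_of_odd_sq {x : G} (hx : Odd (orderOf x)) (h : x * x = 1) : x = 1 := by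
  by_contra h1
  rw [Invol.order_two_of_sq h h1] at hx
  exact absurd hx (by decide)

/-- Elements fixed by `w` and by `v` are fixed by their product. -/
theorem fix_mul {a b c : G} (ha : a * c * a⁻¹ = c) (hb : b * c * b⁻¹ = c) : a * b * c * (a * b)⁻¹ = c := by
  calc a * b * c * (a * b)⁻¹ = a * (b * c * b⁻¹) * a⁻¹ := by group
    _ = c := by rw [hb, ha]

variable (D : JankoRee.Setup t) (hN : OddFacts D.N)
include hN

theorem exists_third {v : G} (hv : v ∈ D.V) : ∃ w ∈ D.V, w ≠ 1 ∧ w ≠ v := by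
  by_contra hcon
  push Not at hcon
  have hsub : (D.V : Set G) ⊆ {1, v} := fun w hw => by
    by_cases h1 : w = 1
    · exact Or.inl h1
    · exact Or.inr (hcon w hw h1)
  have := (Set.ncard_le_ncard hsub (Set.toFinite _)).trans ((Set.ncard_insert_le _ _).trans (by rw [Set.ncard_singleton]))
  rw [← Nat.card_coe_set_eq] at this
  have h4 : Nat.card (D.V : Set G) = 4 := D.card_V
  omega

/-- If one involution of `V` centralises a non-identity element of odd order of `N`, each of them centralises one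
that another involution of `V` inverts. -/
theorem exists_inverted {b u₀ : G} (hb : b ∈ D.N) (hbo : Odd (orderOf b)) (hb1 : b ≠ 1) (hu : u₀ ∈ D.V)
    (hu1 : u₀ ≠ 1) (hbu : b * u₀ = u₀ * b) {v : G} (hv : v ∈ D.V) (hv1 : v ≠ 1) :
    ∃ k ∈ D.N, ∃ w ∈ D.V, Odd (orderOf k) ∧ k ≠ 1 ∧ k * v = v * k ∧ w * k * w⁻¹ = k⁻¹ := by
  obtain ⟨b₁, hb₁, hb₁o, hb₁1, hb₁v⟩ : ∃ b₁ ∈ D.N, Odd (orderOf b₁) ∧ b₁ ≠ 1 ∧ b₁ * v = v * b₁ := by
    refine reach D (P := fun x => ∃ b₁ ∈ D.N, Odd (orderOf b₁) ∧ b₁ ≠ 1 ∧ b₁ * x = x * b₁)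
      (fun x _ ⟨c, hc, hco, hc1, hcx⟩ => ?_) hu hu1 ⟨b, hb, hbo, hb1, hbu⟩ hv hv1
    refine ⟨D.r * c * D.r⁻¹, mul_mem (mul_mem D.hrN hc) (inv_mem D.hrN), by rwa [Invol.order_conj],
      fun e => hc1 (conj_eq_one_iff.1 e), ?_⟩
    calc D.r * c * D.r⁻¹ * (D.r * x * D.r⁻¹) = D.r * (c * x) * D.r⁻¹ := by group
      _ = D.r * x * D.r⁻¹ * (D.r * c * D.r⁻¹) := by rw [hcx]; group
  obtain ⟨w, hw, hw1, hwv⟩ := exists_third D hN hv
  have hwN := D.hVN hw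
  have hvN := D.hVN hv
  have hw2 : w * w = 1 := D.hS2 w (D.hVS hw)
  have hv2 : v * v = 1 := D.hS2 v (D.hVS hv)
  have hwvc : w * v = v * w := comm_S D (D.hVS hw) (D.hVS hv)
  set c := w * b₁ * w⁻¹ with hc
  have hcN : c ∈ D.N := mul_mem (mul_mem hwN hb₁) (inv_mem hwN)
  have hco : Odd (orderOf c) := by rw [hc, Invol.order_conj]; exact hb₁o
  have hcv : c * v = v * c := by
    calc c * v = w * b₁ * (w⁻¹ * v) := by rw [hc]; group
      _ = w * (b₁ * v) * w⁻¹ := by rw [show w⁻¹ * v = v * w⁻¹ from (show Commute w v from hwvc).inv_left.eq]; group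
      _ = w * v * b₁ * w⁻¹ := by rw [hb₁v]; group
      _ = v * c := by rw [hwvc, hc]; group
  have hcomm := hN.comm b₁ hb₁ c hcN v hvN hb₁o hco hv1 hv2 hb₁v hcv
  refine ⟨b₁⁻¹ * c, mul_mem (inv_mem hb₁) hcN, w, hw, ?_, fun e => ?_, ?_, ?_⟩
  · have h := (show Commute b₁⁻¹ c from (show Commute b₁ c from hcomm).inv_left).orderOf_mul_dvd_lcm
    exact Odd.of_dvd_nat ((by rwa [orderOf_inv] : Odd (orderOf b₁⁻¹)).mul hco) (h.trans (Nat.lcm_dvd_mul _ _))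
  · have he : w * b₁ * w⁻¹ = b₁ := (inv_mul_eq_one.1 e).symm
    exact hwv (hN.unique b₁ hb₁ w hwN v hvN hb₁o hb₁1 hw1 hw2 hv1 hv2 (mul_inv_eq_iff_eq_mul.1 he).symm hb₁v)
  · rw [mul_assoc, hcv, ← mul_assoc, (show Commute b₁ v from hb₁v).inv_left.eq, mul_assoc]
  · rw [hc, _root_.mul_inv_rev, inv_inv, show w⁻¹ = w from inv_eq_of_mul_eq_one_right hw2]
    calc w * (b₁⁻¹ * (w * b₁ * w)) * w = w * b₁⁻¹ * w * b₁ * (w * w) := by group
      _ = (w * b₁ * w)⁻¹ * b₁ := by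
        rw [hw2, mul_one, _root_.mul_inv_rev, _root_.mul_inv_rev, inv_eq_of_mul_eq_one_right hw2]; group

/-- The torus lemma inside the centraliser of `t`. -/
theorem inverted_eq_bot (ht : orderOf t = 2) {B : Subgroup G} (hBC : B ≤ centralizer ({t} : Set G))
    (hBo : Odd (Nat.card B)) (hBab : ∀ x ∈ B, ∀ y ∈ B, x * y = y * x)
    (hBS : ∀ x ∈ (D.S : Subgroup G), ∀ b ∈ B, x * b * x⁻¹ ∈ B)
    {s : G} (hs : s ∈ (D.S : Subgroup G)) (hs1 : s ≠ 1) (hst : s ≠ t) (hinv : ∀ b ∈ B, s * b * s⁻¹ = b⁻¹)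
    (hk : (∃ b ∈ D.N, ∃ u₀ ∈ D.V, Odd (orderOf b) ∧ b ≠ 1 ∧ u₀ ≠ 1 ∧ b * u₀ = u₀ * b) →
      ∃ k : G, k ∈ centralizer ({t} : Set G) ∧ Odd (orderOf k) ∧ k ≠ 1 ∧ k * s = s * k ∧
        (∀ b ∈ B, k⁻¹ * b * k ∈ B) ∧ ∃ u ∈ (D.S : Subgroup G), u * k * u⁻¹ = k⁻¹) :
    B = ⊥ := by
  by_contra hB
  have hodd : ∀ b ∈ B, Odd (orderOf b) := fun b hb =>
    hBo.of_dvd_nat (orderOf_dvd_natCard (⟨b, hb⟩ : B) |> fun h => by rwa [orderOf_mk] at h)
  -- an element of `S` acts on the centraliser as its component in `V`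
  have hact : ∀ x ∈ (D.S : Subgroup G), ∃ v ∈ D.V, (x = v ∨ x = v * t) ∧
      ∀ c ∈ centralizer ({t} : Set G), x * c * x⁻¹ = v * c * v⁻¹ := by
    intro x hx
    obtain ⟨v, hv, a, ha, hxe⟩ := D.dec x hx
    refine ⟨v, hv, ?_, fun c hc => ?_⟩
    · rcases JankoRee.Setup.tsq D ha with e | e <;> rw [e] at hxe
      · exact Or.inl (hxe.trans (mul_one v))
      · exact Or.inr hxe
    · have hac : a * c = c * a := by
        obtain ⟨i, rfl⟩ := mem_zpowers_iff.1 ha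
        exact ((show Commute c t from mem_centralizer_singleton_iff.1 hc).zpow_right i).eq.symm
      calc x * c * x⁻¹ = v * (a * c) * a⁻¹ * v⁻¹ := by rw [hxe]; group
        _ = v * c * v⁻¹ := by rw [hac]; group
  obtain ⟨vs, hvs, hsvs, hsact⟩ := hact s hs
  have hvs1 : vs ≠ 1 := by
    rintro rfl
    rcases hsvs with e | e
    · exact hs1 e
    · exact hst (e.trans (one_mul t))
  have hvsN := D.hVN hvs
  have hsq : ∀ x ∈ D.V, x * x = 1 := fun x hx => D.hS2 x (D.hVS hx)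
  have hBinv : ∀ b ∈ B, vs * b * vs⁻¹ = b⁻¹ := fun b hb => (hsact b (hBC hb)).symm.trans (hinv b hb)
  have hBN : B ≤ D.N := by
    intro b hb
    have h1 : vs * (b * vs⁻¹ * b⁻¹) ∈ D.N :=
      mul_mem hvsN ((mem_normalizer_iff.1 (D.hnorm (hBC hb)) _).1 (inv_mem hvsN))
    rw [← mul_assoc, ← mul_assoc, hBinv b hb] at h1
    have h2 : b * b ∈ D.N := by simpa using inv_mem h1
    obtain ⟨j, hj⟩ := hodd b hb
    have h3 := pow_mem h2 (j + 1)
    rwa [← pow_two, ← pow_mul, show 2 * (j + 1) = orderOf b + 1 by omega, pow_succ, pow_orderOf_eq_one,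
      one_mul] at h3
  -- an involution `u₀` of `V` other than `vs` centralising a non-identity element of `B`
  obtain ⟨b₀, hb₀, hb₀1⟩ : ∃ b₀ ∈ B, b₀ ≠ 1 := by
    by_contra hcon
    push Not at hcon
    exact hB ((eq_bot_iff_forall _).2 hcon)
  obtain ⟨w, hw, hw1, hwvs⟩ := exists_third D hN hvs
  have hw2 := hsq w hw
  obtain ⟨b, hb, hb1, u₀, hu₀, hu₀1, hu₀vs, hfix⟩ :
      ∃ b ∈ B, b ≠ 1 ∧ ∃ u₀ ∈ D.V, u₀ ≠ 1 ∧ u₀ ≠ vs ∧ u₀ * b * u₀⁻¹ = b := by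
    set c := w * b₀ * w⁻¹ with hc
    have hcB : c ∈ B := hBS w (D.hVS hw) b₀ hb₀
    by_cases h1 : b₀ * c = 1
    · refine ⟨b₀, hb₀, hb₀1, vs * w, mul_mem hvs hw, fun e => hwvs ?_, fun e => hw1 (mul_eq_left.1 e), ?_⟩
      · rw [eq_inv_of_mul_eq_one_right e, inv_eq_of_mul_eq_one_right (hsq vs hvs)]
      · calc vs * w * b₀ * (vs * w)⁻¹ = vs * (w * b₀ * w⁻¹) * vs⁻¹ := by group
          _ = (vs * b₀ * vs⁻¹)⁻¹ := by rw [← hc, eq_inv_of_mul_eq_one_right h1]; group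
          _ = b₀ := by rw [hBinv b₀ hb₀, inv_inv]
    · refine ⟨b₀ * c, mul_mem hb₀ hcB, h1, w, hw, hw1, hwvs, ?_⟩
      have hcc : w * c * w⁻¹ = b₀ := by
        rw [hc]
        calc w * (w * b₀ * w⁻¹) * w⁻¹ = (w * w) * b₀ * (w * w)⁻¹ := by group
          _ = b₀ := by rw [hw2]; group
      calc w * (b₀ * c) * w⁻¹ = (w * b₀ * w⁻¹) * (w * c * w⁻¹) := by group
        _ = b₀ * c := by rw [← hc, hcc, hBab c hcB b₀ hb₀]
  have hu₀N := D.hVN hu₀
  have hu₀2 := hsq u₀ hu₀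
  have hbu : b * u₀ = u₀ * b := (mul_inv_eq_iff_eq_mul.1 hfix).symm
  -- a conjugate of `u₀` centralising `b` is `u₀`
  have huniq : ∀ g ∈ centralizer ({t} : Set G), b * (g * u₀ * g⁻¹) = g * u₀ * g⁻¹ * b → g * u₀ * g⁻¹ = u₀ :=
    fun g hg he => hN.unique b (hBN hb) _ ((mem_normalizer_iff.1 (D.hnorm hg) u₀).1 hu₀N) u₀ hu₀N (hodd b hb) hb1
      (fun e => hu₀1 (conj_eq_one_iff.1 e)) (by rw [show g * u₀ * g⁻¹ * (g * u₀ * g⁻¹) = g * (u₀ * u₀) * g⁻¹ by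
        group, hu₀2, mul_one, mul_inv_cancel]) hu₀1 hu₀2 he hbu
  have hall : ∀ c ∈ B, c * u₀ = u₀ * c := by
    intro c hc
    refine mul_inv_eq_iff_eq_mul.1 (huniq c (hBC hc) ?_)
    calc b * (c * u₀ * c⁻¹) = (b * c) * u₀ * c⁻¹ := by group
      _ = c * (b * u₀) * c⁻¹ := by rw [hBab b hb c hc]; group
      _ = c * (u₀ * b) * c⁻¹ := by rw [hbu]
      _ = c * u₀ * (b * c⁻¹) := by group
      _ = c * u₀ * c⁻¹ * b := by rw [hBab b hb c⁻¹ (inv_mem hc)]; group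
  obtain ⟨k, hkC, hko, hk1, hks, hkB, u, hu, huk⟩ :=
    hk ⟨b, hBN hb, u₀, hu₀, hodd b hb, hb1, hu₀1, hbu⟩
  have hku : k * u₀ * k⁻¹ = u₀ := huniq k hkC <| by
    calc b * (k * u₀ * k⁻¹) = k * (k⁻¹ * b * k * u₀) * k⁻¹ := by group
      _ = k * (u₀ * (k⁻¹ * b * k)) * k⁻¹ := by rw [hall _ (hkB b hb)]
      _ = k * u₀ * k⁻¹ * b := by group
  obtain ⟨vu, hvu, -, huact⟩ := hact u hu
  have hku' : vu * k * vu⁻¹ = k⁻¹ := (huact k hkC).symm.trans huk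
  have hkvs : vs * k * vs⁻¹ = k := (hsact k hkC).symm.trans (by rw [← hks, mul_inv_cancel_right])
  have hku0 : u₀ * k * u₀⁻¹ = k := by rw [← mul_inv_eq_iff_eq_mul.1 hku, mul_inv_cancel_right]
  have hkfix : vu * k * vu⁻¹ = k := by
    rcases JankoRee.four_cases D.card_V hsq hvs hu₀ hvs1 hu₀1 hu₀vs.symm hvu with e | e | e | e <;> rw [e]
    · group
    · exact hkvs
    · exact hku0
    · exact fix_mul hkvs hku0
  exact hk1 (eq_one_of_odd_sq hko (mul_eq_one_iff_eq_inv.2 (hkfix.symm.trans hku')))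

end Cfsg.Agent.MaxCent
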