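import Cfsg.Agent.Lib.MaxCent.Core
import Cfsg.Agent.Lib.AbelianSylowAut.Central
import Cfsg.Agent.Lib.TwoPtAlt.OddZ
import Cfsg.Agent.Lib.SEMain.Bender

/-!
The centraliser of an involution with a component `PSL₂(q)` in a simple group with abelian Sylow 2-subgroups is
maximal.
-/

set_option autoImplicit false
set_option linter.style.haveILetI false
set_option linter.unusedSectionVars false

namespace Cfsg.Agent.MaxCent

open Subgroup

universe u

variable {G : Type u} [Group G] [Finite G] {t : G} (D : JankoRee.Setup t) (hN : OddFacts D.N)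

/-- An odd subgroup meeting `C(t)` trivially is inverted by `t`. -/
theorem inverted_of_fixedPointFree (ht : orderOf t = 2) {A : Subgroup G}
    (hA : ∀ a ∈ A, t * a * t⁻¹ ∈ A) (hodd : Odd (Nat.card A))
    (hfree : ∀ a ∈ A, t * a * t⁻¹ = a → a = 1) : ∀ a ∈ A, t * a * t⁻¹ = a⁻¹ := by
  have ht2 := Invol.mul_self ht
  let f : A → A := fun a => ⟨(a : G)⁻¹ * (t * a * t⁻¹), mul_mem (inv_mem a.2) (hA _ a.2)⟩
  have hinj : Function.Injective f := by
    intro a b hab
    have h : (a : G)⁻¹ * (t * a * t⁻¹) = (b : G)⁻¹ * (t * b * t⁻¹) := congrArg Subtype.val hab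
    refine Subtype.ext (mul_inv_eq_one.1 (hfree _ (mul_mem b.2 (inv_mem a.2)) ?_)).symm
    calc t * ((b : G) * (a : G)⁻¹) * t⁻¹ = (t * b * t⁻¹) * (t * a * t⁻¹)⁻¹ := by group
      _ = (b : G) * ((b : G)⁻¹ * (t * b * t⁻¹)) * ((a : G) * ((a : G)⁻¹ * (t * a * t⁻¹)))⁻¹ := by group
      _ = (b : G) * (a : G)⁻¹ := by rw [h]; group
  intro a ha
  obtain ⟨b, hb⟩ := Finite.surjective_of_injective hinj ⟨a, ha⟩
  have hb' : (b : G)⁻¹ * (t * b * t⁻¹) = a := congrArg Subtype.val hb
  rw [← hb']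
  calc t * ((b : G)⁻¹ * (t * b * t⁻¹)) * t⁻¹ = t * (b : G)⁻¹ * t⁻¹ * ((t * t) * b * (t * t)⁻¹) := by group
    _ = ((b : G)⁻¹ * (t * b * t⁻¹))⁻¹ := by rw [ht2]; group

include hN

theorem odd_meet_cent (ht : orderOf t = 2) {X : Subgroup G} (hX : Odd (Nat.card X))
    (hXC : X ≤ centralizer ({t} : Set G)) (hn : centralizer ({t} : Set G) ≤ normalizer (X : Set G)) : X = ⊥ := by
  haveI := D.simple
  set M := X.subgroupOf D.N with hM
  haveI hMn : M.Normal := normal_subgroupOf_of_le_normalizer (D.hN.trans hn)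
  have hdis : ∀ x ∈ X, x ∈ D.N → x = 1 := by
    rcases hMn.eq_bot_or_eq_top with e | e
    · intro x hx hxN
      exact congrArg Subtype.val ((eq_bot_iff_forall _).1 e ⟨x, hxN⟩ hx)
    · exfalso
      obtain ⟨w, hw, hw1, -⟩ := exists_third D hN (one_mem D.V)
      have h : Odd (orderOf w) := hX.of_dvd_nat
        (by simpa [orderOf_mk] using orderOf_dvd_natCard (⟨w, subgroupOf_eq_top.1 e (D.hVN hw)⟩ : X))
      exact hw1 (eq_one_of_odd_sq h (D.hS2 w (D.hVS hw)))
  rw [eq_bot_iff_forall]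
  intro x hx
  have hcomm : ∀ y ∈ D.N, x * y = y * x := fun y hy => by
    have h1 : x * y * x⁻¹ * y⁻¹ = 1 := hdis _
      (by rw [mul_assoc, mul_assoc, ← mul_assoc y]
          exact mul_mem hx ((mem_normalizer_iff.1 (hn (D.hN hy)) _).1 (inv_mem hx)))
      (mul_mem ((mem_normalizer_iff.1 (D.hnorm (hXC hx)) y).1 hy) (inv_mem hy))
    exact mul_inv_eq_iff_eq_mul.1 (mul_inv_eq_one.1 h1)
  rcases JankoRee.Setup.tsq D (D.hcent x (hXC hx) hcomm) with e | e
  · exact e
  · subst e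
    have h : Odd (orderOf x) := hX.of_dvd_nat (by simpa [orderOf_mk] using orderOf_dvd_natCard (⟨x, hx⟩ : X))
    rw [ht] at h
    exact absurd h (by decide)

/-- An odd subgroup normalised by `C(t)` and by the element moving `t` to an involution of `V` is trivial. -/
theorem odd_eq_bot [IsSimpleGroup G] (hna : ¬ IsMulCommutative G) (ht : orderOf t = 2) {A : Subgroup G}
    (hA : Odd (Nat.card A)) (hn : centralizer ({t} : Set G) ≤ normalizer (A : Set G)) : A = ⊥ := by
  have hfree : ∀ a ∈ A, t * a * t⁻¹ = a → a = 1 := by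
    intro a ha hat
    have h := odd_meet_cent D hN ht (X := A ⊓ centralizer ({t} : Set G))
      (hA.of_dvd_nat (card_dvd_of_le inf_le_left)) inf_le_right
      (fun g hg => SEBrick.mem_normalizer_of fun x hx =>
        mem_inf.2 ⟨SEBrick.conj_mem_of (hn hg) hx.1, mul_mem (mul_mem hg hx.2) (inv_mem hg)⟩)
    exact (eq_bot_iff_forall _).1 h a
      ⟨ha, mem_centralizer_singleton_iff.2 (mul_inv_eq_iff_eq_mul.1 hat).symm⟩
  have htC : t ∈ centralizer ({t} : Set G) := mem_centralizer_singleton_iff.2 rfl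
  have hinv := inverted_of_fixedPointFree ht (fun a ha => SEBrick.conj_mem_of (hn htC) ha) hA hfree
  have hab : ∀ x ∈ A, ∀ y ∈ A, x * y = y * x := by
    intro x hx y hy
    have h := hinv _ (mul_mem hx hy)
    rw [show t * (x * y) * t⁻¹ = (t * x * t⁻¹) * (t * y * t⁻¹) by group, hinv x hx, hinv y hy,
      ← _root_.mul_inv_rev] at h
    exact (inv_injective h).symm
  have hsq : ∀ x ∈ D.V, x * x = 1 := fun x hx => D.hS2 x (D.hVS hx)
  -- no involution of `V` centralises a non-identity element of `A`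
  have hCv : ∀ v ∈ D.V, v ≠ 1 → ∀ a ∈ A, v * a * v⁻¹ = a → a = 1 := by
    intro v hv hv1 a ha hav
    obtain ⟨g, -, hg, hgt⟩ := ((fix_or_trans D ht (H := ⊤) le_top).resolve_left fun h => by
      obtain ⟨y, hy, hyt⟩ := JankoRee.exists_normalizer_move hna D.S
        ⟨⟨fun a b => Subtype.ext (comm_S D a.2 b.2)⟩⟩ D.htS ht
      exact hyt (h y (mem_top y) hy)) v (D.hVS hv) hv1
    have hvt : v ≠ t := fun e => t_not_mem_V D ht (e ▸ hv)
    set s := g⁻¹ * t * g with hs
    have hsS : s ∈ (D.S : Subgroup G) := (mem_normalizer_iff''.1 hg t).1 D.htS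
    have hs1 : s ≠ 1 := fun e => by
      have : t = 1 := by rw [show t = g * s * g⁻¹ by rw [hs]; group, e]; group
      rw [this, orderOf_one] at ht
      norm_num at ht
    have hst : s ≠ t := fun e => hvt (by rw [← hgt]; nth_rewrite 1 [← e]; rw [hs]; group)
    set B₀ := A ⊓ centralizer ({v} : Set G) with hB₀
    set B := B₀.map (MulAut.conj g⁻¹).toMonoidHom with hB
    have hmemB : ∀ b : G, b ∈ B ↔ g * b * g⁻¹ ∈ B₀ := fun b => by
      rw [hB, mem_map_equiv, MulAut.conj_symm_apply, inv_inv]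
    have hC : ∀ b : G, g * b * g⁻¹ ∈ centralizer ({v} : Set G) ↔ b ∈ centralizer ({t} : Set G) := fun b => by
      rw [mem_centralizer_singleton_iff, mem_centralizer_singleton_iff, ← hgt,
        show g * b * g⁻¹ * (g * t * g⁻¹) = g * (b * t) * g⁻¹ by group,
        show g * t * g⁻¹ * (g * b * g⁻¹) = g * (t * b) * g⁻¹ by group, mul_left_inj, mul_right_inj]
    have hBbot : B = ⊥ := by
      refine inverted_eq_bot D hN ht (fun b hb => (hC b).1 ((hmemB b).1 hb).2) ?_ ?_ ?_ hsS hs1 hst ?_ ?_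
      · rw [hB, card_map_of_injective (MulAut.conj g⁻¹).injective]
        exact hA.of_dvd_nat (card_dvd_of_le inf_le_left)
      · intro x hx y hy
        have h := hab _ ((hmemB x).1 hx).1 _ ((hmemB y).1 hy).1
        rw [show g * x * g⁻¹ * (g * y * g⁻¹) = g * (x * y) * g⁻¹ by group,
          show g * y * g⁻¹ * (g * x * g⁻¹) = g * (y * x) * g⁻¹ by group, mul_left_inj, mul_right_inj] at h
        exact h
      · intro x hx b hb
        rw [hmemB]
        have hxS : g * x * g⁻¹ ∈ (D.S : Subgroup G) := (mem_normalizer_iff.1 hg x).1 hx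
        rw [show g * (x * b * x⁻¹) * g⁻¹ = (g * x * g⁻¹) * (g * b * g⁻¹) * (g * x * g⁻¹)⁻¹ by group]
        refine ⟨SEBrick.conj_mem_of (hn (D.hSC hxS)) ((hmemB b).1 hb).1,
          Subgroup.mul_mem _ (Subgroup.mul_mem _ ?_ ((hmemB b).1 hb).2) (Subgroup.inv_mem _ ?_)⟩ <;>
          exact mem_centralizer_singleton_iff.2 (comm_S D hxS (D.hVS hv))
      · intro b hb
        have h := hinv _ ((hmemB b).1 hb).1
        rw [hs]
        calc g⁻¹ * t * g * b * (g⁻¹ * t * g)⁻¹ = g⁻¹ * (t * (g * b * g⁻¹) * t⁻¹) * g := by group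
          _ = b⁻¹ := by rw [h]; group
      · rintro ⟨b, hb, u₀, hu₀, hbo, hb1, hu1, hbu⟩
        obtain ⟨k, hk, w, hw, hko, hk1, hkv, hwk⟩ := exists_inverted D hN hb hbo hb1 hu₀ hu1 hbu hv hv1
        refine ⟨g⁻¹ * k * g, ?_, ?_, fun e => hk1 ?_, ?_, ?_, g⁻¹ * w * g, ?_, ?_⟩
        · rw [← hC, show g * (g⁻¹ * k * g) * g⁻¹ = k by group]
          exact mem_centralizer_singleton_iff.2 hkv
        · have h := Invol.order_conj g⁻¹ k
          rw [inv_inv] at h
          rwa [h]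
        · rw [show k = g * (g⁻¹ * k * g) * g⁻¹ by group, e]; group
        · rw [hs]
          have hkt : k * t = t * k := mem_centralizer_singleton_iff.1 (D.hN hk)
          calc g⁻¹ * k * g * (g⁻¹ * t * g) = g⁻¹ * (k * t) * g := by group
            _ = g⁻¹ * t * g * (g⁻¹ * k * g) := by rw [hkt]; group
        · intro c hc
          rw [hmemB, show g * ((g⁻¹ * k * g)⁻¹ * c * (g⁻¹ * k * g)) * g⁻¹ = k⁻¹ * (g * c * g⁻¹) * k⁻¹⁻¹ by group]
          have hkC : k⁻¹ ∈ centralizer ({v} : Set G) := Subgroup.inv_mem _ (mem_centralizer_singleton_iff.2 hkv)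
          exact ⟨SEBrick.conj_mem_of (hn (inv_mem (D.hN hk))) ((hmemB c).1 hc).1,
            Subgroup.mul_mem _ (Subgroup.mul_mem _ hkC ((hmemB c).1 hc).2) (Subgroup.inv_mem _ hkC)⟩
        · exact (mem_normalizer_iff''.1 hg w).1 (D.hVS hw)
        · calc g⁻¹ * w * g * (g⁻¹ * k * g) * (g⁻¹ * w * g)⁻¹ = g⁻¹ * (w * k * w⁻¹) * g := by group
            _ = (g⁻¹ * k * g)⁻¹ := by rw [hwk]; group
    have hmem : g⁻¹ * a * g ∈ B := by
      rw [hmemB, show g * (g⁻¹ * a * g) * g⁻¹ = a by group]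
      exact ⟨ha, mem_centralizer_singleton_iff.2 (mul_inv_eq_iff_eq_mul.1 hav).symm⟩
    rw [show a = g * (g⁻¹ * a * g) * g⁻¹ by group, (eq_bot_iff_forall _).1 hBbot _ hmem]
    group
  -- so all three invert `A`
  have hV : ∀ v ∈ D.V, v ≠ 1 → ∀ a ∈ A, v * a * v⁻¹ = a⁻¹ := fun v hv hv1 =>
    inverted_of_fixedPointFree (Invol.order_two_of_sq (hsq v hv) hv1)
      (fun a ha => SEBrick.conj_mem_of (hn (D.hSC (D.hVS hv))) ha) hA (hCv v hv hv1)
  obtain ⟨v, hv, hv1, -⟩ := exists_third D hN (one_mem D.V)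
  obtain ⟨w, hw, hw1, hwv⟩ := exists_third D hN hv
  rw [eq_bot_iff_forall]
  intro a ha
  refine hCv (v * w) (mul_mem hv hw) (fun e => hwv ?_) a ha ?_
  · rw [eq_inv_of_mul_eq_one_right e, inv_eq_of_mul_eq_one_right (hsq v hv)]
  · calc v * w * a * (v * w)⁻¹ = v * (w * a * w⁻¹) * v⁻¹ := by group
      _ = (v * a * v⁻¹)⁻¹ := by rw [hV w hw hw1 a ha]; group
      _ = a := by rw [hV v hv hv1 a ha, inv_inv]

/-- The centraliser of `t` is a maximal subgroup. -/
theorem isCoatom [IsSimpleGroup G] (h : SEMain.Stmt.{u}) (hna : ¬ IsMulCommutative G) (ht : orderOf t = 2) :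
    IsCoatom (centralizer ({t} : Set G)) := by
  haveI : Fact (Nat.Prime 2) := ⟨Nat.prime_two⟩
  haveI hScomm : IsMulCommutative (D.S : Subgroup G) := ⟨⟨fun a b => Subtype.ext (comm_S D a.2 b.2)⟩⟩
  obtain ⟨y, hy, hyt⟩ := JankoRee.exists_normalizer_move hna D.S hScomm D.htS ht
  refine ⟨fun e => hyt ?_, fun H hH => ?_⟩
  · have : y ∈ centralizer ({t} : Set G) := e ▸ mem_top y
    rw [mem_centralizer_singleton_iff.1 this, mul_inv_cancel_right]
  by_contra hHtop
  have hCH : centralizer ({t} : Set G) ≤ H := hH.le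
  have hSH : (D.S : Subgroup G) ≤ H := D.hSC.trans hCH
  set T : Sylow 2 H := D.S.subtype hSH with hT
  have hmap : ((T : Subgroup H).map H.subtype : Subgroup G) = D.S := by
    rw [hT, Sylow.coe_subtype, map_subgroupOf_eq_of_le hSH]
  rcases fix_or_trans D ht hCH with hfix | htrans
  · -- `t` is isolated in `H`
    set tH : H := ⟨t, hSH D.htS⟩ with htH
    haveI : IsMulCommutative (T : Subgroup H) := ⟨⟨fun a b => Subtype.ext (Subtype.ext (comm_S D
      (mem_subgroupOf.1 a.2) (mem_subgroupOf.1 b.2)))⟩⟩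
    have hiso : Cfsg.IsIsolated tH := AbelianSylowAut.isolated_of_fixed T
      (by rw [htH, orderOf_mk]; exact ht) (mem_subgroupOf.2 D.htS) (fun n hn => Subtype.ext
        (hfix n n.2 (SEBrick.mem_normalizer_of fun x hx => mem_subgroupOf.1
          ((mem_normalizer_iff.1 hn ⟨x, hSH hx⟩).1 (mem_subgroupOf.2 hx)))))
    have hsplit := TwoPtAlt.zstar_split (show orderOf tH = 2 by rw [htH, orderOf_mk]; exact ht) hiso
    haveI := FittingCores.pPrimeCore_normal (G := H) 2
    have hA := odd_eq_bot D hN hna ht (A := (Cfsg.oddCore H).map H.subtype)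
      (by rw [card_map_of_injective H.subtype_injective]; exact SEBrick.oddCore_odd)
      (fun g hg => SEBrick.mem_normalizer_of (by
        rintro _ ⟨x, hx, rfl⟩
        exact ⟨⟨g, hCH hg⟩ * x * ⟨g, hCH hg⟩⁻¹, (inferInstance : (Cfsg.oddCore H).Normal).conj_mem x hx _, rfl⟩))
    have hbot : Cfsg.oddCore H = ⊥ := (map_eq_bot_iff_of_injective _ H.subtype_injective).1 hA
    have htop : centralizer ({tH} : Set H) = ⊤ := by rwa [hbot, sup_bot_eq] at hsplit
    refine hH.ne (le_antisymm hCH fun x hx => mem_centralizer_singleton_iff.2 ?_)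
    have hmem : (⟨x, hx⟩ : H) ∈ centralizer ({tH} : Set H) := htop.symm ▸ mem_top _
    exact congrArg Subtype.val (mem_centralizer_singleton_iff.1 hmem)
  -- `H` is strongly embedded
  have hheven : Even (Nat.card H) := even_iff_two_dvd.2
    (ht ▸ (orderOf_dvd_natCard (⟨t, hSH D.htS⟩ : H) |> fun h => by rwa [orderOf_mk] at h))
  have hCS : ∀ s ∈ (D.S : Subgroup G), s ≠ 1 → centralizer ({s} : Set G) ≤ H := by
    intro s hs hs1 c hc
    obtain ⟨n, hn, -, hns⟩ := htrans s hs hs1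
    have : n⁻¹ * c * n ∈ centralizer ({t} : Set G) := by
      rw [mem_centralizer_singleton_iff] at hc ⊢
      rw [← hns] at hc
      calc n⁻¹ * c * n * t = n⁻¹ * (c * (n * t * n⁻¹)) * n := by group
        _ = t * (n⁻¹ * c * n) := by rw [hc]; group
    rw [show c = n * (n⁻¹ * c * n) * n⁻¹ by group]
    exact mul_mem (mul_mem hn (hCH this)) (inv_mem hn)
  have hse : Cfsg.IsStronglyEmbedded H := by
    refine Invol.se_of_centralizers hHtop T hheven ?_ fun x hxH hx => ?_
    · rw [hmap]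
      intro n hn
      have hs : n * t * n⁻¹ ∈ (D.S : Subgroup G) := (mem_normalizer_iff.1 hn t).1 D.htS
      obtain ⟨m, hm, -, hmn⟩ := htrans _ hs (fun e => by
        rw [conj_eq_one_iff] at e
        rw [e, orderOf_one] at ht
        norm_num at ht)
      have : m⁻¹ * n ∈ centralizer ({t} : Set G) := by
        rw [mem_centralizer_singleton_iff]
        calc m⁻¹ * n * t = m⁻¹ * (n * t * n⁻¹) * n := by group
          _ = t * (m⁻¹ * n) := by rw [← hmn]; group
      rw [show n = m * (m⁻¹ * n) by group]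
      exact mul_mem hm (hCH this)
    · have hp : IsPGroup 2 (zpowers (⟨x, hxH⟩ : H)) :=
        IsPGroup.of_card (n := 1) (by rw [Nat.card_zpowers, orderOf_mk, hx, pow_one])
      obtain ⟨R, hR⟩ := hp.exists_le_sylow
      obtain ⟨c, hc⟩ := MulAction.exists_smul_eq H R T
      have hmem : (c : G) * x * (c : G)⁻¹ ∈ (D.S : Subgroup G) := by
        have h1 : c * ⟨x, hxH⟩ * c⁻¹ ∈ (T : Subgroup H) := by
          rw [← hc, Sylow.coe_subgroup_smul]
          exact ⟨⟨x, hxH⟩, hR (mem_zpowers _), rfl⟩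
        exact mem_subgroupOf.1 h1
      intro d hd
      have hd' : (c : G) * d * (c : G)⁻¹ ∈ centralizer ({(c : G) * x * (c : G)⁻¹} : Set G) := by
        rw [mem_centralizer_singleton_iff] at hd ⊢
        calc (c : G) * d * (c : G)⁻¹ * ((c : G) * x * (c : G)⁻¹) = c * (d * x) * (c : G)⁻¹ := by group
          _ = _ := by rw [hd]; group
      rw [show d = (c : G)⁻¹ * ((c : G) * d * (c : G)⁻¹) * c by group]
      refine mul_mem (mul_mem (inv_mem c.2) (hCS _ hmem (fun e => ?_) hd')) c.2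
      rw [conj_eq_one_iff] at e
      rw [e, orderOf_one] at hx
      norm_num at hx
  obtain ⟨Q, hQ⟩ := SEMain.exists_reg_simple h hse
  obtain ⟨R, hR⟩ := hQ.exists_sylow hse
  have hVQ : D.V ≤ Q := fun v hv => by
    rw [← hR]
    refine JankoRee.mem_sylow_of_normalizes R (SEBrick.mem_normalizer_of fun q hq => ?_) (k := 1)
      (by rw [pow_one, pow_two]; exact D.hS2 v (D.hVS hv))
    rw [hR] at hq ⊢
    exact hQ.conj_mem (hSH (D.hVS hv)) hq
  haveI := D.simple
  haveI hMn : (Q.subgroupOf D.N).Normal := normal_subgroupOf_of_le_normalizer fun g hg =>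
    SEBrick.mem_normalizer_of fun q hq => hQ.conj_mem (hCH (D.hN hg)) hq
  obtain ⟨v, hv, hv1, -⟩ := exists_third D hN (one_mem D.V)
  rcases hMn.eq_bot_or_eq_top with e | e
  · exact hv1 (congrArg Subtype.val ((eq_bot_iff_forall _).1 e ⟨v, D.hVN hv⟩ (hVQ hv)))
  have hp : IsPGroup 2 D.N := hQ.two.to_le (subgroupOf_eq_top.1 e)
  haveI : Nontrivial D.N := ⟨⟨⟨v, D.hVN hv⟩, 1, fun e => hv1 (congrArg Subtype.val e)⟩⟩
  haveI : Nontrivial (center D.N) := hp.center_nontrivial
  have hcen : center D.N = ⊤ := (inferInstance : (center D.N).Normal).eq_bot_or_eq_top.resolve_left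
    fun e => (nontrivial_iff_ne_bot _).1 inferInstance e
  have h1 : D.r * v = v * D.r := congrArg Subtype.val
    (mem_center_iff.1 (hcen ▸ mem_top (⟨v, D.hVN hv⟩ : D.N)) ⟨D.r, D.hrN⟩)
  exact hv1 (D.hrfix v hv (by rw [h1, mul_inv_cancel_right]))

end Cfsg.Agent.MaxCent
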